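import Groth.Agent.DualCx.KoszulTower
import Groth.Agent.KosEuler.Samuel
import Groth.Agent.DRing.TorBalance
import Groth.Prelude.Def_IntMult

/-!
# `Tor` against the quotient by a regular sequence is Koszul homology
-/

universe u

open CategoryTheory CategoryTheory.Limits MonoidalCategory DerivedCategory

attribute [local instance] HasDerivedCategory.standard

namespace Groth.Agent.KosTor

open Groth.Agent.DRing Groth.Agent.DRing.DBasic Groth.Agent.DRing.KFlat

variable {A : Type u} [CommRing A]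

/-- Balancing, on homology. -/
theorem nonempty_homology_balance {M N : ModuleCat.{u} A} (R : ProjectiveResolution N)
    {P : _root_.DRing.Cx A} (hP : IsKFlat P)
    (eP : _root_.DRing.toD P ≅ _root_.DRing.toD (SingleTensor.S0 M)) (i : ℤ) :
    Nonempty ((_root_.DRing.tensorCx R.cochainComplex M).homology i ≅
      (_root_.DRing.tensorCx P N).homology i) := by
  obtain ⟨R₁, π₁, hR₁, -, hq₁, -⟩ := KProjRes.exists_resolution (SingleTensor.S0 M)
  have h₁ : IsKFlat R₁ := isKFlat_of_isKProjective R₁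
  have h₂ := TorBalance.isKFlat_cochainComplex R
  have hq₂ : QuasiIso R.π' := inferInstance
  have a₁ := quasiIso_whiskerRight h₂ π₁
  have a₂ := quasiIso_whiskerLeft h₁ R.π'
  obtain ⟨g, hg⟩ := exists_Q_map_eq (L := P)
    ((asIso (DerivedCategory.Q.map π₁)).hom ≫ eP.inv)
  have : QuasiIso g :=
    (isIso_Q_map_iff_quasiIso (C := ModuleCat.{u} A) g).1 (by rw [hg]; infer_instance)
  have a₃ := SingleTensor.quasiIso_tensorRight N g h₁ hP
  let H := HomologicalComplex.homologyFunctor (ModuleCat.{u} A) (ComplexShape.up ℤ) i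
  exact ⟨H.mapIso (SingleTensor.iso M R.cochainComplex) ≪≫
    (@asIso _ _ _ _ (HomologicalComplex.homologyMap (π₁ ▷ R.cochainComplex) i)
      ((quasiIsoAt_iff_isIso_homologyMap _ _).mp (a₁.quasiIsoAt i))).symm ≪≫
    (@asIso _ _ _ _ (HomologicalComplex.homologyMap (R₁ ◁ R.π') i)
      ((quasiIsoAt_iff_isIso_homologyMap _ _).mp (a₂.quasiIsoAt i))) ≪≫
    H.mapIso (Tensor.braid R₁ (SingleTensor.S0 N)) ≪≫
    (H.mapIso (SingleTensor.iso N R₁)).symm ≪≫
    (@asIso _ _ _ _ (HomologicalComplex.homologyMap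
      (((tensorRight N).mapHomologicalComplex (ComplexShape.up ℤ)).map g) i)
      ((quasiIsoAt_iff_isIso_homologyMap _ _).mp (a₃.quasiIsoAt i)))⟩

theorem T_eq_It : ∀ (l : List A) (E : _root_.DRing.Cx A),
    DualCx.Tower.T l E = KoszulMul.CechRegular.It l E
  | [], _ => rfl
  | x :: l, E => congrArg (fun F : _root_.DRing.Cx A => CochainComplex.mappingCone (x • 𝟙 F)) (T_eq_It l E)

/-- `Tor_{k+1}(A/(l), M)` is Koszul homology. -/
theorem length_tor_succ (l : List A) (hl : RingTheory.Sequence.IsWeaklyRegular A l.reverse)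
    (M : Type u) [AddCommGroup M] [Module A M] (k : ℕ) :
    Module.length A (_root_.DRing.Tor A (k + 1) (A ⧸ Ideal.ofList l) M) =
      Module.length A (KosEuler.H l M (-((k + 1 : ℕ) : ℤ))) := by
  let Q := ModuleCat.of A (A ⧸ Ideal.ofList l)
  obtain ⟨R⟩ := HasProjectiveResolution.out (Z := ModuleCat.of A M)
  let C := ((tensorLeft Q).mapHomologicalComplex (ComplexShape.down ℕ)).obj R.complex
  let D := _root_.DRing.tensorCx R.cochainComplex Q
  let e₀ : D.sc' (-((k + 2 : ℕ) : ℤ)) (-((k + 1 : ℕ) : ℤ)) (-(k : ℤ)) ≅ C.sc' (k + 2) (k + 1) k :=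
    ShortComplex.isoMk (TorBalance.resXIso R Q _ (k + 2) rfl) (TorBalance.resXIso R Q _ (k + 1) rfl)
      (TorBalance.resXIso R Q _ k rfl)
      (TorBalance.resXIso_comm R Q _ _ (k + 2) (k + 1) rfl rfl).symm
      (TorBalance.resXIso_comm R Q _ _ (k + 1) k rfl rfl).symm
  let e₁ := C.isoSc' (k + 2) (k + 1) k (by simp) (by simp)
  let e₂ := D.isoSc' (-((k + 2 : ℕ) : ℤ)) (-((k + 1 : ℕ) : ℤ)) (-(k : ℤ)) (by simp; omega) (by simp)
  obtain ⟨eQ⟩ := DualCx.KoszulTower.nonempty_quotient_iso l hl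
  let P := DualCx.Tower.T l (DualCx.KoszulTower.S0 (ModuleCat.of A A))
  have hP : IsKFlat P := TorAmp.isKFlat_of_projective (b := 0)
    (fun i hi => DualCx.KoszulTower.isZero_X _ l i (Or.inl hi)) (DualCx.KoszulTower.projective_X l)
  obtain ⟨b⟩ := nonempty_homology_balance R hP
    (eQ ≪≫ (TorBalance.inDS0 (A ⧸ Ideal.ofList l)).symm) (-((k + 1 : ℕ) : ℤ))
  obtain ⟨c⟩ := DualCx.KoszulTower.nonempty_tensor_T (ModuleCat.of A M) l
  have e := ((R.isoLeftDerivedObj (tensorLeft Q) (k + 1)) ≪≫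
    ShortComplex.homologyMapIso (e₁ ≪≫ e₀.symm ≪≫ e₂.symm) ≪≫ b ≪≫
    (DBasic.hIso _ _).symm ≪≫ (DBasic.HF _).mapIso c ≪≫ DBasic.hIso _ _)
  refine e.toLinearEquiv.length_eq.trans ?_
  exact congrArg (fun E : _root_.DRing.Cx A => Module.length A (E.homology (-((k + 1 : ℕ) : ℤ)))) (T_eq_It l _)

/-- `Tor_0(A/(l), M)` is Koszul homology. -/
theorem length_tor_zero (l : List A) (M : Type u) [AddCommGroup M] [Module A M] :
    Module.length A (_root_.DRing.Tor A 0 (A ⧸ Ideal.ofList l) M) =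
      Module.length A (KosEuler.H l M 0) := by
  obtain ⟨f, hf, hker⟩ := KosEuler.exists_H0 (M := M) l
  have : PreservesFiniteColimits (tensorLeft (ModuleCat.of A (A ⧸ Ideal.ofList l))) :=
    PreservesColimitsOfSize.preservesFiniteColimits _
  let e₁ := ((tensorLeft (ModuleCat.of A (A ⧸ Ideal.ofList l))).leftDerivedZeroIsoSelf.app
    (ModuleCat.of A M)).toLinearEquiv
  refine e₁.length_eq.trans ?_
  refine ((TensorProduct.quotTensorEquivQuotSMul M (Ideal.ofList l)).trans
    ((Submodule.quotEquivOfEq _ _ hker.symm).trans (f.quotKerEquivOfSurjective hf))).length_eq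

/-- The Euler characteristic of `Tor` against `A/(l)` is the Koszul one. -/
theorem chi_eq (l : List A) (hl : RingTheory.Sequence.IsWeaklyRegular A l.reverse)
    (M : Type u) [AddCommGroup M] [Module A M] :
    IntMult.chi A (A ⧸ Ideal.ofList l) M = KosEuler.χ l M := by
  have hsupp : Function.support (fun i : ℤ => ((i.negOnePow : ℤˣ) : ℤ) * LenLib.lenZ A (KosEuler.H l M i)) ⊆
      Set.range (fun k : ℕ => -(k : ℤ)) := by
    intro i hi
    by_contra hne
    refine hi ?_
    have : ¬ i ≤ 0 := fun h => hne ⟨(-i).toNat, by simp; omega⟩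
    simp only [LenLib.lenZ, KosEuler.length_H_eq_zero l M i (by omega)]
    simp
  unfold IntMult.chi KosEuler.χ
  conv_rhs => rw [← Set.indicator_eq_self.mpr hsupp, ← finsum_mem_def,
    finsum_mem_range (g := fun k : ℕ => -(k : ℤ)) (fun a b (h : -(a : ℤ) = -(b : ℤ)) => by simpa using h)]
  refine finsum_congr fun k => ?_
  have hs : (((-(k : ℤ)).negOnePow : ℤˣ) : ℤ) = (-1 : ℤ) ^ k := by
    simp [Int.negOnePow]
  rw [hs]
  cases k with
  | zero => rw [LenLib.lenZ, Nat.cast_zero, neg_zero, length_tor_zero l M]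
  | succ k => rw [LenLib.lenZ, length_tor_succ l hl M k]

end Groth.Agent.KosTor
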